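/- B & G section 1: proved in `FT/BG01.lean`. -/
import Cfsg.Agent.FT.BG01
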