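/- SPEC of B & G, Appendix C (Coq BGappendixC.v): proved in `FT/AppC.lean`
(`prime_dim_normed_finField`). -/
import Cfsg.Agent.FT.AppC
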