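/- Peterfalvi section 4.  Owner: helper2.  Proved in `FT/PF04*`. -/
import Cfsg.Agent.FT.PF04
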