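/- Peterfalvi section 5 (Coq PFsection5): coherence.  Owner: helper7.
Proved in `FT/PF05a` (sets of induced characters), `FT/PF05b` (general coherence), `FT/PF05` (prime Dade case). -/
import Cfsg.Agent.FT.PF05
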