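/- B & G section 3 with Peterfalvi (9.1) (proved in `FT/BG03*.lean`). Owner: helper6. -/
import Cfsg.Agent.FT.S.BG02
import Cfsg.Agent.FT.BG03
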