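/- SPEC of B & G section 16: proved in `FT/BG16.lean`. -/
import Cfsg.Agent.FT.BG16
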