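/- Peterfalvi section 7 (Coq PFsection7): the inverse Dade map.  Owner: helper7.
Proved in `FT/PF07a` ((7.1)–(7.7)), `FT/PF07b` ((7.8), (7.9)), `FT/PF07` ((7.10), (7.11)). -/
import Cfsg.Agent.FT.PF07
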