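/- Peterfalvi section 8 (Coq PFsection8).  Owner: helper7.  Proved in `FT/PF08a` ((8.1)–(8.12)) and `FT/PF08`.
`'A1~(M)` is `FTDadeSupport M (A1 M)`, `FT_Dade0 maxM` is `Dade ⊤ M (A0 M)`, `FT_Dade` is `Dade ⊤ M (AM M)`,
`FT_Dade1` is `Dade ⊤ M (A1 M)`, `FT_DadeF` is `Dade ⊤ M (sharp (Fcore M))`;
`FTtypeP_coh_base` is `cohBase ⊤ (Dade ⊤ M (A0 M)).toAddMonoidHom`. -/
import Cfsg.Agent.FT.PF08
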