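/- Peterfalvi section 9: now proved, see FT/PF09a-d. -/
import Cfsg.Agent.FT.S.PF08
import Cfsg.Agent.FT.PF9Defs
import Cfsg.Agent.FT.AppCDefs
import Cfsg.Agent.FT.PF09d
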