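/- Peterfalvi section 10 (Coq PFsection10).  Proved in `FT/PF10a` ((10.2)–(10.5), (10.9)), `FT/PF10b`
((10.5)–(10.8)) and `FT/PF10` ((10.10), (10.11)). -/
import Cfsg.Agent.FT.PF10
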