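/- Peterfalvi section 11 (Coq PFsection11).  Proved in `FT/PF11a` ((11.1)–(11.7)) and `FT/PF11` ((11.8), (11.9)). -/
import Cfsg.Agent.FT.PF11
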