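/- SPEC of Peterfalvi section 12: proved in `FT/PF12.lean` (and `FT/PF12a.lean`, `FT/PF12b.lean`). -/
import Cfsg.Agent.FT.PF12
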