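/- SPEC of Peterfalvi section 13, part A: proved in `FT/PF13A.lean`. -/
import Cfsg.Agent.FT.PF13A
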