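/- SPEC of Peterfalvi section 13, part C (13.17-13.19): proved in `FT/PF13C.lean` (and `FT/PF13Ca.lean`). -/
import Cfsg.Agent.FT.PF13C
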