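/- SPEC of Peterfalvi section 13: see S/PF13A, S/PF13B, S/PF13C. -/
import Cfsg.Agent.FT.S.PF13C
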