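/- Peterfalvi section 14: proved, see FT/PF14*.lean. -/
import Cfsg.Agent.FT.PF14
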