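/- SPEC of B & G, Appendices A, B and 6.1, 6.2, with the `ZJ`-theorem in place of Puig's `L(S)`.
`ZJT n S` is `Z(J(S))` (`n = 0`: abelian subgroups of maximal order, `n = p`: elementary ones);
`ZJT_le`, `normalizer_le_normalizer_ZJT`, `ZJT_ne_bot`, `map_ZJT` are in `Lib.ZJ.Basic`.
Owner: helper6. -/
import Cfsg.Agent.FT.AppA
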